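import Mathlib
import Cfsg.Agent.TT95.K45.Data

/-!
The automorphisms of the graph on 45 keys form a group of order 51840, generated by either of two lists.
-/

set_option autoImplicit false

namespace Cfsg.Agent.TT95.K45G

open Equiv

/-- Adjacency of indices. -/
def adj (i j : ℕ) : Bool := (masks.getD i 0).testBit j

/-- An index as a finite number. -/
def ix (x : ℕ) : Fin 45 := ⟨x % 45, Nat.mod_lt x (by norm_num)⟩

theorem ix_val (i : Fin 45) : ix i = i := Fin.ext (Nat.mod_eq_of_lt i.2)

theorem val_ix {x : ℕ} (h : x < 45) : (ix x : ℕ) = x := Nat.mod_eq_of_lt h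

/-- The automorphisms of the graph. -/
def autGraph : Subgroup (Perm (Fin 45)) where
  carrier := {σ | ∀ i j : Fin 45, adj (σ i) (σ j) = adj i j}
  one_mem' _ _ := rfl
  mul_mem' {a b} ha hb i j := by rw [Perm.mul_apply, Perm.mul_apply, ha, hb]
  inv_mem' {a} ha i j := by
    conv_rhs => rw [show i = a (a⁻¹ i) by simp, show j = a (a⁻¹ j) by simp]
    rw [ha]

/-- A list as a map of indices. -/
def apL (p : List ℕ) (x : ℕ) : ℕ := p.getD x 0

/-- The list is an automorphism. -/
def autOK (p : List ℕ) : Bool :=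
  (List.range 45).all fun i => apL p i < 45 &&
    (List.range 45).all fun j => (adj (apL p i) (apL p j) == adj i j) && (i == j || apL p i != apL p j)

theorem exists_perm {p : List ℕ} (h : autOK p = true) :
    ∃ σ ∈ autGraph, ∀ i : Fin 45, (σ i : ℕ) = apL p i := by
  simp only [autOK, List.all_eq_true, List.mem_range, Bool.and_eq_true, decide_eq_true_eq,
    beq_iff_eq, Bool.or_eq_true, bne_iff_ne] at h
  let f : Fin 45 → Fin 45 := fun i => ⟨apL p i, (h i i.2).1⟩
  have hf : Function.Injective f := fun i j e => by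
    rcases ((h i i.2).2 j j.2).2 with e' | e'
    · exact Fin.ext e'
    · exact absurd (congrArg Fin.val e) e'
  refine ⟨Equiv.ofBijective f ⟨hf, Finite.injective_iff_surjective.1 hf⟩, fun i j => ?_, fun i => rfl⟩
  exact ((h i i.2).2 j j.2).1

/-- The value of a word. -/
def wordAp (gens : List (List ℕ)) (w : List ℕ) (x : ℕ) : ℕ :=
  w.foldr (fun g y => apL (gens.getD g []) y) x

theorem exists_word {gens : List (List ℕ)} (hg : ∀ p ∈ gens, autOK p = true)
    {H : Subgroup (Perm (Fin 45))}
    (hH : ∀ p ∈ gens, ∀ σ : Perm (Fin 45), (∀ i : Fin 45, (σ i : ℕ) = apL p i) → σ ∈ H) :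
    ∀ w : List ℕ, (∀ g ∈ w, g < gens.length) →
      ∃ σ ∈ autGraph ⊓ H, ∀ i : Fin 45, (σ i : ℕ) = wordAp gens w i
  | [], _ => ⟨1, one_mem _, fun _ => rfl⟩
  | g :: w, hw => by
    obtain ⟨σ, hσ, hσ'⟩ := exists_word hg hH w fun x hx => hw x (List.mem_cons_of_mem _ hx)
    have hlt := hw g List.mem_cons_self
    have hmem : gens.getD g [] ∈ gens := by
      rw [List.getD_eq_getElem _ _ hlt]; exact List.getElem_mem _
    obtain ⟨τ, hτ, hτ'⟩ := exists_perm (hg _ hmem)
    refine ⟨τ * σ, mul_mem ⟨hτ, hH _ hmem τ hτ'⟩ hσ, fun i => ?_⟩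
    rw [Perm.mul_apply, hτ', hσ']
    rfl

/-- The automorphisms fixing the listed indices. -/
def fixing (det : List ℕ) : Subgroup (Perm (Fin 45)) where
  carrier := {σ | σ ∈ autGraph ∧ ∀ d ∈ det, σ (ix d) = ix d}
  one_mem' := ⟨one_mem _, fun _ _ => rfl⟩
  mul_mem' {a b} ha hb := ⟨mul_mem ha.1 hb.1, fun d hd => by rw [Perm.mul_apply, hb.2 d hd, ha.2 d hd]⟩
  inv_mem' {a} ha := ⟨inv_mem ha.1, fun d hd => by
    conv_lhs => rw [← ha.2 d hd]
    simp⟩

/-- The pattern of `y` relative to the determined indices is that of `b`. -/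
def patt (det : List ℕ) (b y : ℕ) : Bool := det.all fun d => (adj y d == adj b d) && y != d

theorem patt_of_fixing {det : List ℕ} (hdet : ∀ d ∈ det, d < 45) {b : ℕ} (hb : b < 45) (hbd : b ∉ det)
    {σ : Perm (Fin 45)} (hσ : σ ∈ fixing det) : patt det b (σ (ix b)) = true := by
  simp only [patt, List.all_eq_true, Bool.and_eq_true, beq_iff_eq, bne_iff_ne]
  intro d hd
  have e := hσ.1 (ix b) (ix d)
  rw [hσ.2 d hd, val_ix (hdet d hd), val_ix hb] at e
  refine ⟨e, fun h => hbd ?_⟩
  have : σ (ix b) = σ (ix d) := by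
    rw [hσ.2 d hd]; exact Fin.ext (by rw [h, val_ix (hdet d hd)])
  have h2 := congrArg Fin.val (σ.injective this)
  rw [val_ix hb, val_ix (hdet d hd)] at h2
  exact h2 ▸ hd

/-- Every index is determined in the listed order. -/
def rigidOK : List ℕ → List ℕ → Bool
  | det, [] => (List.range 45).all fun i => det.contains i
  | det, x :: r => x < 45 && !det.contains x &&
      ((List.range 45).all fun y => !patt det x y || y == x) && rigidOK (det ++ [x]) r

theorem rigid_spec : ∀ (r det : List ℕ), (∀ d ∈ det, d < 45) → rigidOK det r = true → fixing det = ⊥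
  | [], det, _, h => by
    simp only [rigidOK, List.all_eq_true, List.mem_range, List.contains_iff_mem] at h
    refine (Subgroup.eq_bot_iff_forall _).2 fun σ hσ => Equiv.ext fun i => ?_
    have := hσ.2 i (h i i.2)
    rwa [ix_val] at this
  | x :: r, det, hdet, h => by
    simp only [rigidOK, Bool.and_eq_true, decide_eq_true_eq, Bool.not_eq_true', List.all_eq_true,
      List.mem_range, Bool.or_eq_true, beq_iff_eq] at h
    obtain ⟨⟨⟨hx, hxd⟩, hu⟩, hr⟩ := h
    have hxd' : x ∉ det := fun hm => by rw [List.contains_iff_mem.2 hm] at hxd; simp at hxd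
    have hd' : ∀ d ∈ det ++ [x], d < 45 := fun d hd => by
      rcases List.mem_append.1 hd with h | h
      · exact hdet d h
      · rw [List.mem_singleton.1 h]; exact hx
    rw [← rigid_spec r _ hd' hr]
    refine le_antisymm (fun σ hσ => ⟨hσ.1, fun d hd => ?_⟩) fun σ hσ =>
      ⟨hσ.1, fun d hd => hσ.2 d (List.mem_append_left _ hd)⟩
    rcases List.mem_append.1 hd with hd | hd
    · exact hσ.2 d hd
    · rw [List.mem_singleton.1 hd]
      have := (hu _ (σ (ix x)).2).resolve_left (by rw [patt_of_fixing hdet hx hxd' hσ]; simp)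
      exact Fin.ext (this.trans (val_ix hx).symm)

/-- The levels form a chain of transversals. -/
def chainOK (gens : List (List ℕ)) : List ℕ → List (ℕ × List (List ℕ)) → List ℕ → Bool
  | det, [], r => rigidOK det r
  | det, (b, ws) :: lv, r => b < 45 && !det.contains b &&
      (ws.all fun w => (w.all fun g => g < gens.length) && det.all fun d => wordAp gens w d == d) &&
      ((List.range 45).all fun y => !patt det b y || ws.any fun w => wordAp gens w b == y) &&
      (decide (ws.map fun w => wordAp gens w b).Nodup) && chainOK gens (det ++ [b]) lv r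

theorem chain_spec {gens : List (List ℕ)} (hg : ∀ p ∈ gens, autOK p = true) {H : Subgroup (Perm (Fin 45))}
    (hH : ∀ p ∈ gens, ∀ σ : Perm (Fin 45), (∀ i : Fin 45, (σ i : ℕ) = apL p i) → σ ∈ H) :
    ∀ (lv : List (ℕ × List (List ℕ))) (r det : List ℕ), (∀ d ∈ det, d < 45) → chainOK gens det lv r = true →
      fixing det ≤ H ∧ Nat.card (fixing det) = (lv.map fun p => p.2.length).prod
  | [], r, det, hdet, h => by
    rw [rigid_spec r det hdet h]
    exact ⟨bot_le, by simp⟩
  | (b, ws) :: lv, r, det, hdet, h => by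
    simp only [chainOK, Bool.and_eq_true, decide_eq_true_eq, Bool.not_eq_true', List.all_eq_true,
      List.mem_range, Bool.or_eq_true, List.any_eq_true, beq_iff_eq] at h
    obtain ⟨⟨⟨⟨⟨hb, hbd⟩, hws⟩, hsur⟩, hnd⟩, hrest⟩ := h
    have hbd' : b ∉ det := fun hm => by rw [List.contains_iff_mem.2 hm] at hbd; simp at hbd
    have hd' : ∀ d ∈ det ++ [b], d < 45 := fun d hd => by
      rcases List.mem_append.1 hd with h | h
      · exact hdet d h
      · rw [List.mem_singleton.1 h]; exact hb
    obtain ⟨hle, hcard⟩ := chain_spec hg hH lv r _ hd' hrest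
    have hrep : ∀ w ∈ ws, ∃ σ ∈ fixing det ⊓ H, (σ (ix b) : ℕ) = wordAp gens w b := by
      intro w hw
      obtain ⟨σ, hσ, hσ'⟩ := exists_word hg hH w (hws w hw).1
      refine ⟨σ, ⟨⟨hσ.1, fun d hd => Fin.ext ?_⟩, hσ.2⟩, by rw [hσ', val_ix hb]⟩
      rw [hσ', val_ix (hdet d hd)]
      exact (hws w hw).2 d hd
    have hcover : ∀ σ ∈ fixing det, ∃ w ∈ ws, wordAp gens w b = σ (ix b) := fun σ hσ =>
      (hsur _ (σ (ix b)).2).resolve_left (by rw [patt_of_fixing hdet hb hbd' hσ]; simp)
    refine ⟨fun σ hσ => ?_, ?_⟩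
    · obtain ⟨w, hw, e⟩ := hcover σ hσ
      obtain ⟨τ, hτ, eτ⟩ := hrep w hw
      have hmem : τ⁻¹ * σ ∈ fixing (det ++ [b]) := by
        have h1 : τ⁻¹ * σ ∈ fixing det := mul_mem (inv_mem hτ.1) hσ
        refine ⟨h1.1, fun d hd => ?_⟩
        rcases List.mem_append.1 hd with hd | hd
        · exact h1.2 d hd
        · rw [List.mem_singleton.1 hd, Perm.mul_apply,
            show σ (ix b) = τ (ix b) from Fin.ext (e.symm.trans eτ.symm)]
          simp
      have := mul_mem hτ.2 (hle hmem)
      rwa [mul_inv_cancel_left] at this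
    · let f : fixing det → Fin 45 := fun σ => σ.1 (ix b)
      let S := (fixing (det ++ [b])).subgroupOf (fixing det)
      have hS : ∀ g g' : fixing det, f g = f g' ↔ g⁻¹ * g' ∈ S := by
        intro g g'
        show g.1 (ix b) = g'.1 (ix b) ↔ g.1⁻¹ * g'.1 ∈ fixing (det ++ [b])
        refine ⟨fun e => ⟨(mul_mem (inv_mem g.2) g'.2).1, fun d hd => ?_⟩, fun e => ?_⟩
        · rcases List.mem_append.1 hd with hd | hd
          · exact (mul_mem (inv_mem g.2) g'.2).2 d hd
          · rw [List.mem_singleton.1 hd, Perm.mul_apply, ← e]; simp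
        · have := e.2 b (List.mem_append_right _ (List.mem_singleton_self b))
          rw [Perm.mul_apply] at this
          conv_lhs => rw [← this]
          simp
      let φ : fixing det ⧸ S → Fin 45 := Quotient.lift f fun g g' hgg =>
        (hS g g').2 (QuotientGroup.leftRel_apply.1 hgg)
      have hinj : Function.Injective φ := by
        intro p q e
        obtain ⟨g, rfl⟩ := QuotientGroup.mk_surjective p
        obtain ⟨g', rfl⟩ := QuotientGroup.mk_surjective q
        exact QuotientGroup.eq.2 ((hS g g').1 e)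
      have hq : Nat.card (fixing det ⧸ S) = ws.length := by
        rw [Nat.card_congr (Equiv.ofInjective φ hinj), Nat.card_coe_set_eq,
          ← Set.ncard_image_of_injective _ Fin.val_injective]
        have : (Fin.val '' Set.range φ) = ((ws.map fun w => wordAp gens w b).toFinset : Set ℕ) := by
          ext y
          simp only [Set.mem_image, Set.mem_range, Finset.mem_coe, List.mem_toFinset, List.mem_map]
          constructor
          · rintro ⟨_, ⟨p, rfl⟩, rfl⟩
            obtain ⟨g, rfl⟩ := QuotientGroup.mk_surjective p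
            exact hcover g g.2
          · rintro ⟨w, hw, rfl⟩
            obtain ⟨τ, hτ, eτ⟩ := hrep w hw
            exact ⟨_, ⟨QuotientGroup.mk ⟨τ, hτ.1⟩, rfl⟩, eτ⟩
        rw [this, Set.ncard_coe_finset, List.toFinset_card_of_nodup hnd, List.length_map]
      have hle' : fixing (det ++ [b]) ≤ fixing det := fun σ hσ =>
        ⟨hσ.1, fun d hd => hσ.2 d (List.mem_append_left _ hd)⟩
      rw [Subgroup.card_eq_card_quotient_mul_card_subgroup S, hq,
        Nat.card_congr (Subgroup.subgroupOfEquivOfLe hle').toEquiv, hcard, List.map_cons, List.prod_cons]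

theorem gens_ok : (tGens.all autOK && rGens.all autOK) = true := by decide +kernel

theorem tChain : chainOK tGens [] tLevels detOrder = true := by decide +kernel

theorem rChain : chainOK rGens [] rLevels detOrder = true := by decide +kernel

theorem fixing_nil : fixing [] = autGraph :=
  le_antisymm (fun _ h => h.1) fun _ h => ⟨h, fun _ hd => absurd hd List.not_mem_nil⟩

/-- The graph has 51840 automorphisms. -/
theorem card_autGraph : Nat.card autGraph = 51840 := by
  have hg := List.all_eq_true.1 (Bool.and_eq_true_iff.1 gens_ok).1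
  have := (chain_spec hg (H := ⊤) (fun _ _ σ _ => Subgroup.mem_top σ) tLevels detOrder [] (by simp) tChain).2
  rw [fixing_nil] at this
  exact this.trans (by decide)

theorem autGraph_le_t {H : Subgroup (Perm (Fin 45))}
    (hH : ∀ p ∈ tGens, ∀ σ : Perm (Fin 45), (∀ i : Fin 45, (σ i : ℕ) = apL p i) → σ ∈ H) : autGraph ≤ H := by
  have hg := List.all_eq_true.1 (Bool.and_eq_true_iff.1 gens_ok).1
  rw [← fixing_nil]
  exact (chain_spec hg hH tLevels detOrder [] (by simp) tChain).1

theorem autGraph_le_r {H : Subgroup (Perm (Fin 45))}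
    (hH : ∀ p ∈ rGens, ∀ σ : Perm (Fin 45), (∀ i : Fin 45, (σ i : ℕ) = apL p i) → σ ∈ H) : autGraph ≤ H := by
  have hg := List.all_eq_true.1 (Bool.and_eq_true_iff.1 gens_ok).2
  rw [← fixing_nil]
  exact (chain_spec hg hH rLevels detOrder [] (by simp) rChain).1

end Cfsg.Agent.TT95.K45G
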