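import Cfsg.Agent.TT95.K45.Graph
import Cfsg.Agent.Lib.OrthCohom.Minus

/-!
The isometries of the six-dimensional minus type form over two elements are the automorphisms of the
graph on 45 keys.
-/

set_option autoImplicit false

namespace Cfsg.Agent.TT95.K45G

open Equiv Cfsg.Agent.OrthCohom Cfsg.Agent.Reflections QuadraticMap

/-- The form. -/
noncomputable def qq : QuadraticForm (ZMod 2) ((Fin 2 ⊕ Fin 2) ⊕ Fin 2 → ZMod 2) := qMinus 2 (ZMod 2) 1 1

/-- The vector with the given code. -/
def vv (k : ℕ) : (Fin 2 ⊕ Fin 2) ⊕ Fin 2 → ZMod 2 := vec (eMinus 2) k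

/-- The isometry group. -/
abbrev Iso6 : Type := ↥(Cfsg.isometryGroup (ZMod 2) ⇑qq)

/-- The three points of the line of an index. -/
def pts3 (i : ℕ) : List ℕ := lineOf.getD i []

/-- Singular code. -/
def sing (a : ℕ) : Bool := a != 0 && !qmMinus 2 a

theorem line_check : ((List.range 45).all fun i =>
    ((pts3 i).all fun a => decide (a < 64) && sing a) &&
    ((pts3 i).all fun a => (pts3 i).all fun b => a == b || (!bilB (qmMinus 2) a b && (pts3 i).contains (a ^^^ b))) &&
    decide ((pts3 i).Nodup) && decide ((pts3 i).length = 3)) = true := by decide +kernel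

theorem through_check : ((List.range 64).all fun a => (List.range 64).all fun b =>
    !(sing a && sing b && a != b && !bilB (qmMinus 2) a b) ||
      (List.range 45).any fun j => (pts3 j).contains a && (pts3 j).contains b) = true := by decide +kernel

theorem meet_check : ((List.range 45).all fun i => (List.range 45).all fun j => i == j ||
    ((adj i j == (pts3 i).any fun a => (pts3 j).contains a) &&
      ((pts3 i).all fun a => (pts3 i).all fun b => a == b || !((pts3 j).contains a && (pts3 j).contains b)))) = true := by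
  decide +kernel

theorem adj_irrefl : ((List.range 45).all fun i => !adj i i) = true := by decide +kernel

theorem point_check : (List.range 64).all (fun a => !sing a ||
    (List.range 45).any fun i => (List.range 45).any fun j =>
      i != j && (pts3 i).contains a && (pts3 j).contains a) = true := by decide +kernel

theorem basis_check : (List.range 6).all (fun k => sing (2 ^ k) ||
    (List.range 64).any fun a => sing a && sing (a ^^^ 2 ^ k)) = true := by decide +kernel

theorem refl_check : ((List.range 36).all fun k =>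
    decide (rVecs.getD k 0 < 64) && qmMinus 2 (rVecs.getD k 0) &&
      (List.range 45).all fun i => (pts3 i).all fun a =>
        (pts3 (apL (rGens.getD k []) i)).contains (app (reflTab 6 (qmMinus 2) (rVecs.getD k 0)) a)) = true := by
  decide +kernel

theorem rGens_length : rGens.length = 36 := by decide +kernel

theorem pts3_spec {i : ℕ} (hi : i < 45) :
    (∀ a ∈ pts3 i, a < 64 ∧ sing a = true) ∧
    (∀ a ∈ pts3 i, ∀ b ∈ pts3 i, a ≠ b → bilB (qmMinus 2) a b = false ∧ a ^^^ b ∈ pts3 i) ∧
    (pts3 i).Nodup ∧ (pts3 i).length = 3 := by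
  have h := List.all_eq_true.1 line_check i (List.mem_range.2 hi)
  simp only [Bool.and_eq_true, List.all_eq_true, decide_eq_true_eq, Bool.or_eq_true, beq_iff_eq,
    Bool.not_eq_true', List.contains_iff_mem] at h
  exact ⟨h.1.1.1, fun a ha b hb hne => (h.1.1.2 a ha b hb).resolve_left hne, h.1.2, h.2⟩

theorem line_unique {i j a b : ℕ} (hi : i < 45) (hj : j < 45) (hab : a ≠ b) (ha : a ∈ pts3 i) (hb : b ∈ pts3 i)
    (ha' : a ∈ pts3 j) (hb' : b ∈ pts3 j) : i = j := by
  by_contra hne
  have h := List.all_eq_true.1 (List.all_eq_true.1 meet_check i (List.mem_range.2 hi)) j (List.mem_range.2 hj)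
  simp only [Bool.or_eq_true, beq_iff_eq, Bool.and_eq_true, List.all_eq_true, Bool.not_eq_true',
    Bool.and_eq_false_iff] at h
  rcases ((h.resolve_left hne).2 a ha b hb).resolve_left hab with e | e
  · rw [List.contains_iff_mem.2 ha'] at e; simp at e
  · rw [List.contains_iff_mem.2 hb'] at e; simp at e

theorem adj_iff {i j : ℕ} (hi : i < 45) (hj : j < 45) :
    adj i j = true ↔ i ≠ j ∧ ∃ a, a ∈ pts3 i ∧ a ∈ pts3 j := by
  by_cases hne : i = j
  · subst hne
    have h := List.all_eq_true.1 adj_irrefl i (List.mem_range.2 hi)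
    rw [Bool.not_eq_true'] at h
    simp [h]
  have h := List.all_eq_true.1 (List.all_eq_true.1 meet_check i (List.mem_range.2 hi)) j (List.mem_range.2 hj)
  rw [Bool.or_eq_true, beq_iff_eq, Bool.and_eq_true, beq_iff_eq] at h
  rw [(h.resolve_left hne).1]
  simp [List.any_eq_true, hne]

/-- The isometry carries the first line to the second. -/
def Maps (g : Iso6) (i j : ℕ) : Prop := ∀ a ∈ pts3 i, ∃ a' ∈ pts3 j, act g (vv a) = vv a'

theorem coded : Coded 6 (eMinus 2) qq (qmMinus 2) := coded6

theorem exists_maps (g : Iso6) {i : ℕ} (hi : i < 45) : ∃ j : Fin 45, Maps g i j := by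
  obtain ⟨h1, h2, hnd, hlen⟩ := pts3_spec hi
  obtain ⟨a, b, c, habc⟩ := List.length_eq_three.1 hlen
  have hab : a ≠ b := by rw [habc] at hnd; simp at hnd; exact hnd.1.1
  have ha : a ∈ pts3 i := by rw [habc]; simp
  have hb : b ∈ pts3 i := by rw [habc]; simp
  obtain ⟨a', ha', ea⟩ := vec_surj (eMinus 2) (act g (vv a))
  obtain ⟨b', hb', eb⟩ := vec_surj (eMinus 2) (act g (vv b))
  have hab' : a' ≠ b' := fun e => by
    subst e
    exact hab (vec_inj (eMinus 2) (h1 a ha).1 (h1 b hb).1 (act_injective g (ea.symm.trans eb)))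
  have hs : ∀ {x x'}, x < 64 → x' < 2 ^ 6 → sing x = true → vec (eMinus 2) x' = act g (vv x) → sing x' = true := by
    intro x x' hx hx' hsx e
    simp only [sing, Bool.and_eq_true, bne_iff_ne, Bool.not_eq_true'] at hsx ⊢
    refine ⟨fun h0 => hsx.1 ?_, ?_⟩
    · subst h0
      refine vec_inj (eMinus 2) hx (Nat.two_pow_pos 6) ?_
      apply act_injective g
      rw [vec_zero, act_zero]
      rw [vec_zero] at e
      exact e.symm
    · have h := act_Q g (vv x)
      rw [← e, coded.q_vec hx', vv, coded.q_vec hx, hsx.2] at h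
      cases hq : qmMinus 2 x'
      · rfl
      · rw [hq] at h; simp at h
  have hbil : bilB (qmMinus 2) a' b' = false := by
    have h := act_polar g (vv a) (vv b)
    rw [← ea, ← eb, coded.polar_vec ha' hb', vv, vv, coded.polar_vec (h1 a ha).1 (h1 b hb).1,
      (h2 a ha b hb hab).1] at h
    cases hq : bilB (qmMinus 2) a' b'
    · rfl
    · rw [hq] at h; simp at h
  have hthr := List.all_eq_true.1 (List.all_eq_true.1 through_check a' (List.mem_range.2 ha')) b' (List.mem_range.2 hb')
  rw [Bool.or_eq_true, hs (h1 a ha).1 ha' (h1 a ha).2 ea, hs (h1 b hb).1 hb' (h1 b hb).2 eb, hbil] at hthr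
  simp only [bne_iff_ne, Bool.and_eq_true, Bool.not_eq_true', Bool.and_eq_false_iff, List.any_eq_true,
    List.mem_range, List.contains_iff_mem] at hthr
  obtain ⟨j, hj, ja, jb⟩ := hthr.resolve_left (by simp [hab'])
  refine ⟨⟨j, hj⟩, fun x hx => ?_⟩
  by_cases hxa : x = a
  · exact ⟨a', ja, by rw [hxa]; exact ea.symm⟩
  by_cases hxb : x = b
  · exact ⟨b', jb, by rw [hxb]; exact eb.symm⟩
  refine ⟨a' ^^^ b', ((pts3_spec hj).2.1 a' ja b' jb hab').2, ?_⟩
  have hc : x = c := by rw [habc] at hx; simp [hxa, hxb] at hx; exact hx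
  have hab3 : a ^^^ b = c := by
    have hm := (h2 a ha b hb hab).2
    rw [habc] at hm
    simp only [List.mem_cons, List.not_mem_nil, or_false] at hm
    rcases hm with e | e | e
    · exfalso
      have e0 : b = 0 := by
        have := congrArg (a ^^^ ·) e
        simpa [← Nat.xor_assoc] using this
      have := (h1 b hb).2
      rw [e0] at this
      simp [sing] at this
    · exfalso
      have e0 : a = 0 := by
        have := congrArg (· ^^^ b) e
        simpa [Nat.xor_assoc] using this
      have := (h1 a ha).2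
      rw [e0] at this
      simp [sing] at this
    · exact e
  rw [hc, ← hab3, vv, vv, vec_xor, vec_xor, act_add, ea, eb]
  rfl

theorem maps_unique {g : Iso6} {i j j' : ℕ} (hi : i < 45) (hj : j < 45) (hj' : j' < 45) (h : Maps g i j)
    (h' : Maps g i j') : j = j' := by
  obtain ⟨h1, -, hnd, hlen⟩ := pts3_spec hi
  obtain ⟨a, b, c, habc⟩ := List.length_eq_three.1 hlen
  have hab : a ≠ b := by rw [habc] at hnd; simp at hnd; exact hnd.1.1
  have ha : a ∈ pts3 i := by rw [habc]; simp
  have hb : b ∈ pts3 i := by rw [habc]; simp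
  obtain ⟨a1, m1, e1⟩ := h a ha
  obtain ⟨b1, n1, f1⟩ := h b hb
  obtain ⟨a2, m2, e2⟩ := h' a ha
  obtain ⟨b2, n2, f2⟩ := h' b hb
  obtain rfl := vec_inj (eMinus 2) ((pts3_spec hj).1 a1 m1).1 ((pts3_spec hj').1 a2 m2).1 (e1.symm.trans e2)
  obtain rfl := vec_inj (eMinus 2) ((pts3_spec hj).1 b1 n1).1 ((pts3_spec hj').1 b2 n2).1 (f1.symm.trans f2)
  refine line_unique hj hj' (fun e => hab ?_) m1 n1 m2 n2
  exact vec_inj (eMinus 2) (h1 a ha).1 (h1 b hb).1 (act_injective g (e1.trans ((congrArg vv e).trans f1.symm)))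

theorem maps_one {i : ℕ} : Maps 1 i i := fun a ha => ⟨a, ha, act_one _⟩

theorem maps_mul {g h : Iso6} {i j k : ℕ} (h1 : Maps h i j) (h2 : Maps g j k) : Maps (g * h) i k := by
  intro a ha
  obtain ⟨a', ha', e⟩ := h1 a ha
  obtain ⟨a'', ha'', e'⟩ := h2 a' ha'
  exact ⟨a'', ha'', by rw [act_mul, e, e']⟩

/-- Isometries act on the lines. -/
theorem exists_lineHom : ∃ φ : Iso6 →* Perm (Fin 45), ∀ (g : Iso6) (i : Fin 45), Maps g i (φ g i) := by
  choose f hf using fun (g : Iso6) (i : Fin 45) => exists_maps g i.2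
  have hone : ∀ i, f 1 i = i := fun i => Fin.ext (maps_unique i.2 (f 1 i).2 i.2 (hf 1 i) maps_one)
  have hmul : ∀ g h i, f (g * h) i = f g (f h i) := fun g h i =>
    Fin.ext (maps_unique i.2 (f (g * h) i).2 (f g (f h i)).2 (hf _ i) (maps_mul (hf h i) (hf g _)))
  exact ⟨{ toFun := fun g => ⟨f g, f g⁻¹, fun i => by rw [← hmul, inv_mul_cancel, hone],
             fun i => by rw [← hmul, mul_inv_cancel, hone]⟩
           map_one' := Equiv.ext hone
           map_mul' := fun g h => Equiv.ext (hmul g h) }, hf⟩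

/-- The isometry group is the automorphism group of the graph. -/
theorem exists_iso_minus :
    Nonempty (↥(Cfsg.isometryGroup (ZMod 2) (Cfsg.quadFormMinus 2 (ZMod 2) 1 1)) ≃* autGraph) := by
  rw [← coe_qMinus]
  show Nonempty (Iso6 ≃* autGraph)
  obtain ⟨φ, hφ⟩ := exists_lineHom
  have hdir : ∀ (g : Iso6) (i j : Fin 45), adj i j = true → adj (φ g i) (φ g j) = true := by
    intro g i j h
    obtain ⟨hne, a, ha, ha'⟩ := (adj_iff i.2 j.2).1 h
    obtain ⟨a1, m1, e1⟩ := hφ g i a ha
    obtain ⟨a2, m2, e2⟩ := hφ g j a ha'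
    obtain rfl := vec_inj (eMinus 2) ((pts3_spec (φ g i).2).1 a1 m1).1 ((pts3_spec (φ g j).2).1 a2 m2).1
      (e1.symm.trans e2)
    exact (adj_iff (φ g i).2 (φ g j).2).2
      ⟨fun e => hne (congrArg Fin.val ((φ g).injective (Fin.ext e))), a1, m1, m2⟩
  have haut : ∀ g, φ g ∈ autGraph := fun g i j => by
    refine Bool.eq_iff_iff.2 ⟨fun h => ?_, hdir g i j⟩
    have := hdir g⁻¹ _ _ h
    rwa [← Perm.mul_apply, ← Perm.mul_apply, ← map_mul, inv_mul_cancel, map_one] at this
  have hinj : Function.Injective φ := by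
    rw [injective_iff_map_eq_one]
    intro g hg
    have hfix : ∀ a, a < 64 → sing a = true → act g (vv a) = vv a := by
      intro a ha hs
      have h := List.all_eq_true.1 point_check a (List.mem_range.2 ha)
      rw [hs] at h
      simp only [Bool.not_true, Bool.false_or, List.any_eq_true, List.mem_range, Bool.and_eq_true, bne_iff_ne,
        List.contains_iff_mem] at h
      obtain ⟨i, hi, j, hj, ⟨hne, mi⟩, mj⟩ := h
      obtain ⟨a1, m1, e1⟩ := hφ g ⟨i, hi⟩ a mi
      obtain ⟨a2, m2, e2⟩ := hφ g ⟨j, hj⟩ a mj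
      rw [hg] at m1 m2
      obtain rfl := vec_inj (eMinus 2) ((pts3_spec hi).1 a1 m1).1 ((pts3_spec hj).1 a2 m2).1 (e1.symm.trans e2)
      rw [e1]
      by_contra hne'
      exact hne (line_unique hi hj (fun e => hne' (congrArg vv e.symm)) mi m1 mj m2)
    refine Tab.ext (c := idT 6) (e := eMinus 2) ⟨by simp [idT], fun k => ?_⟩ tab_one
    have h2k : (2 : ℕ) ^ (k : ℕ) < 64 := Nat.pow_lt_pow_right (by norm_num) k.2
    have hk := List.all_eq_true.1 basis_check k (List.mem_range.2 k.2)
    have hid : vec (eMinus 2) ((idT 6).getD k 0) = vv (2 ^ (k : ℕ)) := by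
      have : (k : ℕ) < 6 := k.2
      simp [idT, vv, List.getD_eq_getElem?_getD, this]
    rw [hid]
    rw [Bool.or_eq_true] at hk
    rcases hk with h | h
    · exact hfix _ h2k h
    · simp only [List.any_eq_true, List.mem_range, Bool.and_eq_true] at h
      obtain ⟨a, ha, s1, s2⟩ := h
      have e : 2 ^ (k : ℕ) = a ^^^ (a ^^^ 2 ^ (k : ℕ)) := by rw [← Nat.xor_assoc, Nat.xor_self, Nat.zero_xor]
      show act g (vv (2 ^ (k : ℕ))) = vv _
      conv_lhs => rw [e, vv, vec_xor]
      conv_rhs => rw [e, vv, vec_xor]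
      rw [act_add]
      exact congrArg₂ (· + ·) (hfix a ha s1) (hfix _ (Nat.xor_lt_two_pow (n := 6) ha h2k) s2)
  have hrange : φ.range = autGraph := by
    refine le_antisymm (by rintro _ ⟨g, rfl⟩; exact haut g) (autGraph_le_r fun p hp σ hσ => ?_)
    obtain ⟨k, hk, rfl⟩ := List.mem_iff_getElem.1 hp
    have hc := List.all_eq_true.1 refl_check k (List.mem_range.2 (rGens_length ▸ hk))
    simp only [Bool.and_eq_true, decide_eq_true_eq, List.all_eq_true, List.mem_range, List.contains_iff_mem] at hc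
    obtain ⟨⟨hv, hq⟩, hmap⟩ := hc
    refine ⟨refl qq (vv (rVecs.getD k 0)), Equiv.ext fun i => Fin.ext ?_⟩
    have hp' : rGens.getD k [] = rGens[k] := List.getD_eq_getElem _ _ hk
    refine maps_unique i.2 (φ _ i).2 (σ i).2 (hφ _ i) fun a ha => ?_
    refine ⟨app (reflTab 6 (qmMinus 2) (rVecs.getD k 0)) a, ?_, ?_⟩
    · rw [hσ i, ← hp']; exact hmap i i.2 a ha
    · exact (coded.tab_refl hv hq).app_eq a
  exact ⟨(MonoidHom.ofInjective hinj).trans (MulEquiv.subgroupCongr hrange)⟩

end Cfsg.Agent.TT95.K45G
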