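import Cfsg.Agent.TT95.K45.MinusNormal
import Cfsg.Agent.CG26.OutPSU
import Cfsg.Agent.Lib.UnitaryOrthogonal.KleinPSU

/-!
The automorphism group of the unitary group of dimension 4 over the field with four elements.
-/

set_option autoImplicit false

namespace Cfsg.Agent.TT95.K45G

universe u

/-- Order of the simple unitary group. -/
theorem card_psu4 {F : Type u} [Field F] [Fintype F] (hF : Fintype.card F = 2 ^ 2) :
    Nat.card (Cfsg.PSU 4 F 2) = 25920 := by
  have h : Nat.gcd 4 (2 + 1) * ((2 + 1) * Nat.card (Cfsg.PSU 4 F 2)) = _ := Unitary.card_PSU hF (n := 4) (by norm_num)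
  generalize Nat.card (Cfsg.PSU 4 F 2) = N at h ⊢
  rw [show Nat.gcd 4 (2 + 1) = 1 by decide] at h
  simp [Finset.prod_range_succ] at h
  norm_num [show Even 2 by decide, show ¬ Even 3 by decide, show ¬ Even 1 by decide] at h
  omega

/-- At most twice the order of the group. -/
theorem card_aut_psu4_le {F : Type u} [Field F] [Fintype F] (hF : Fintype.card F = 2 ^ 2) :
    Nat.card (MulAut (Cfsg.PSU 4 F 2)) ≤ 51840 := by
  haveI : Fact (Nat.Prime 2) := ⟨Nat.prime_two⟩
  obtain ⟨φ, hsurj, -, hker⟩ := CG26.OutPSU.out_psu (n := 4) hF (by norm_num) (by norm_num)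
    (p := 2) (f := 1) le_rfl (by norm_num)
  have h1 := Subgroup.card_eq_card_quotient_mul_card_subgroup φ.ker
  rw [Nat.card_congr (QuotientGroup.quotientKerEquivOfSurjective φ hsurj).toEquiv, hker,
    Nat.card_congr Multiplicative.toAdd, Nat.card_zmod] at h1
  have h2 := Subgroup.card_eq_card_quotient_mul_card_subgroup (Cfsg.Inn (Cfsg.PSU 4 F 2))
  have h3 : Nat.card (Cfsg.Inn (Cfsg.PSU 4 F 2)) ≤ 25920 := by
    rw [← card_psu4 hF]
    refine Nat.card_le_card_of_surjective
      (fun x => ⟨MulAut.conj x, x, rfl⟩ : Cfsg.PSU 4 F 2 → Cfsg.Inn (Cfsg.PSU 4 F 2)) ?_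
    rintro ⟨_, x, rfl⟩
    exact ⟨x, rfl⟩
  change Nat.card (Cfsg.Out (Cfsg.PSU 4 F 2)) = _ at h1
  change Nat.card (MulAut (Cfsg.PSU 4 F 2)) = Nat.card (Cfsg.Out (Cfsg.PSU 4 F 2)) * _ at h2
  rw [show Nat.gcd 4 (2 + 1) = 1 by decide] at h1
  rw [h2, h1]
  omega

/-- The automorphism group of the unitary group is the automorphism group of the graph. -/
theorem exists_iso_aut_psu4 {F : Type u} [Field F] [Fintype F] (hF : Fintype.card F = 2 ^ 2) :
    Nonempty (MulAut (Cfsg.PSU 4 F 2) ≃* autGraph) := by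
  classical
  have hab : ∀ z₁ z₂ : ZMod 2, z₁ ^ 2 + 1 * z₁ * z₂ + 1 * z₂ ^ 2 = 0 → z₁ = 0 ∧ z₂ = 0 := by decide
  haveI : Fact (Nat.Prime 2) := ⟨Nat.prime_two⟩
  obtain ⟨eK⟩ := UnitaryOrthogonal.pomega_six_minus_equiv (F := ZMod 2) (K := F) (a := 1) (b := 1)
    (by rw [Nat.card_eq_fintype_card, Nat.card_eq_fintype_card, ZMod.card, hF]) hab
  rw [Nat.card_zmod] at eK
  obtain ⟨e⟩ := exists_iso_minus
  set Ω := Cfsg.Omega (ZMod 2) (Cfsg.quadFormMinus 2 (ZMod 2) 1 1)
  set N : Subgroup autGraph := Ω.map e.toMonoidHom with hN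
  haveI hNn : N.Normal := Subgroup.Normal.map inferInstance _ e.surjective
  have eΩ : Ω ≃* N := Ω.equivMapOfInjective _ e.injective
  have hZN : Subgroup.center N = ⊥ := by
    haveI : ((Subgroup.center N).map N.subtype).Normal :=
      ConjAct.normal_of_characteristic_of_normal
    have hab' : ∀ x ∈ (Subgroup.center N).map N.subtype, ∀ y ∈ (Subgroup.center N).map N.subtype, x * y = y * x := by
      rintro _ ⟨x, hx, rfl⟩ _ ⟨y, -, rfl⟩
      rw [← map_mul, ← map_mul, (Subgroup.mem_center_iff.1 hx y)]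
    have hc : Group.IsNilpotent ((Subgroup.center N).map N.subtype) := by
      letI : CommGroup ((Subgroup.center N).map N.subtype) :=
        { (inferInstance : Group ((Subgroup.center N).map N.subtype)) with
          mul_comm := fun x y => Subtype.ext (hab' x x.2 y y.2) }
      exact CommGroup.isNilpotent
    have h := autGraph_nilpotent_normal inferInstance hc
    rwa [Subgroup.map_eq_bot_iff_of_injective _ N.subtype_injective] at h
  have hZΩ : Subgroup.center Ω = ⊥ := by
    refine (Subgroup.eq_bot_iff_forall _).2 fun x hx => eΩ.injective ?_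
    rw [map_one, ← Subgroup.mem_bot, ← hZN, Subgroup.mem_center_iff]
    intro y
    obtain ⟨y, rfl⟩ := eΩ.surjective y
    rw [← map_mul, ← map_mul, Subgroup.mem_center_iff.1 hx y]
  let eP : N ≃* Cfsg.PSU 4 F 2 :=
    eΩ.symm.trans ((QuotientGroup.quotientBot.symm.trans (QuotientGroup.quotientMulEquivOfEq hZΩ.symm)).trans eK)
  have hNcard : Nat.card N = 25920 := by rw [Nat.card_congr eP.toEquiv, card_psu4 hF]
  let c : autGraph →* MulAut N := MulAut.conjNormal
  have hker : c.ker = ⊥ := by
    have hmem : ∀ g, g ∈ c.ker → ∀ n : N, g * n * g⁻¹ = n := fun g hg n => by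
      have := congrArg Subtype.val (DFunLike.congr_fun (MonoidHom.mem_ker.1 hg) n)
      simpa [c, MulAut.conjNormal_apply] using this
    have hdisj : c.ker ⊓ N = ⊥ := by
      refine (Subgroup.eq_bot_iff_forall _).2 ?_
      rintro g ⟨hg, hgN⟩
      have : (⟨g, hgN⟩ : N) ∈ Subgroup.center N := Subgroup.mem_center_iff.2 fun n =>
        Subtype.ext (mul_inv_eq_iff_eq_mul.1 (hmem g hg n)).symm
      rw [hZN, Subgroup.mem_bot] at this
      exact congrArg Subtype.val this
    have hle : Nat.card c.ker ≤ 2 := by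
      have hinj : Function.Injective (fun g : c.ker => (QuotientGroup.mk (g : autGraph) : autGraph ⧸ N)) := by
        intro g h hgh
        have h1 : ((g⁻¹ * h : c.ker) : autGraph) ∈ c.ker ⊓ N := ⟨SetLike.coe_mem _, QuotientGroup.eq.1 hgh⟩
        rw [hdisj, Subgroup.mem_bot, OneMemClass.coe_eq_one] at h1
        exact inv_mul_eq_one.1 h1
      refine (Nat.card_le_card_of_injective _ hinj).trans ?_
      have h := Subgroup.card_eq_card_quotient_mul_card_subgroup N
      rw [card_autGraph, hNcard] at h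
      omega
    refine autGraph_nilpotent_normal inferInstance ?_
    rcases (Nat.le_succ_iff.1 hle) with h | h
    · haveI : Subsingleton c.ker := (Nat.card_eq_one_iff_unique.1 (le_antisymm h Nat.card_pos)).1
      exact inferInstance
    · exact (IsPGroup.of_card (n := 1) (p := 2) (by simpa using h)).isNilpotent
  let f : autGraph →* MulAut (Cfsg.PSU 4 F 2) := (MulAut.congr eP).toMonoidHom.comp c
  have hf : Function.Injective f := (MulAut.congr eP).injective.comp ((MonoidHom.ker_eq_bot_iff c).1 hker)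
  have hcard : Nat.card autGraph = Nat.card (MulAut (Cfsg.PSU 4 F 2)) :=
    le_antisymm (Nat.card_le_card_of_injective f hf) (card_autGraph.symm ▸ card_aut_psu4_le hF)
  exact ⟨(MulEquiv.ofBijective f ((Nat.bijective_iff_injective_and_card f).2 ⟨hf, hcard⟩)).symm⟩

end Cfsg.Agent.TT95.K45G
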