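import Cfsg.Agent.TT95.K45.Graph

/-!
A lower bound for a subgroup containing the even generators.
-/

set_option autoImplicit false

namespace Cfsg.Agent.TT95.K45G

open Equiv

/-- Transversals inside the generated subgroup, without asking them to be complete. -/
def lowOK (gens : List (List ℕ)) : List ℕ → List (ℕ × List (List ℕ)) → Bool
  | _, [] => true
  | det, (b, ws) :: lv => b < 45 &&
      (ws.all fun w => (w.all fun g => g < gens.length) && det.all fun d => wordAp gens w d == d) &&
      det.all (fun d => d < 45) &&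
      (decide (ws.map fun w => wordAp gens w b).Nodup) && lowOK gens (det ++ [b]) lv

theorem low_spec {gens : List (List ℕ)} (hg : ∀ p ∈ gens, autOK p = true) {H : Subgroup (Perm (Fin 45))}
    (hH : ∀ p ∈ gens, ∀ σ : Perm (Fin 45), (∀ i : Fin 45, (σ i : ℕ) = apL p i) → σ ∈ H) :
    ∀ (lv : List (ℕ × List (List ℕ))) (det : List ℕ), lowOK gens det lv = true →
      (lv.map fun p => p.2.length).prod ≤ Nat.card (fixing det ⊓ H : Subgroup (Perm (Fin 45)))
  | [], det, _ => by
    simp only [List.map_nil, List.prod_nil]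
    exact Nat.card_pos
  | (b, ws) :: lv, det, h => by
    simp only [lowOK, Bool.and_eq_true, decide_eq_true_eq, List.all_eq_true, beq_iff_eq] at h
    obtain ⟨⟨⟨⟨hb, hws⟩, hdet⟩, hnd⟩, hrest⟩ := h
    have ih := low_spec hg hH lv (det ++ [b]) hrest
    set S := fixing (det ++ [b]) ⊓ H with hS
    have hrep : ∀ w : {w // w ∈ ws}, ∃ σ, σ ∈ fixing det ⊓ H ∧ (σ (ix b) : ℕ) = wordAp gens w.1 b := by
      rintro ⟨w, hw⟩
      obtain ⟨σ, hσ, hσ'⟩ := exists_word hg hH w (hws w hw).1
      refine ⟨σ, ⟨⟨hσ.1, fun d hd => Fin.ext ?_⟩, hσ.2⟩, by rw [hσ', val_ix hb]⟩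
      rw [hσ', val_ix (hdet d hd)]
      exact (hws w hw).2 d hd
    choose u hu hub using hrep
    have hws' : ws.Nodup := hnd.of_map _
    let φ : {w // w ∈ ws} × S → (fixing det ⊓ H : Subgroup (Perm (Fin 45))) := fun x =>
      ⟨u x.1 * x.2.1, mul_mem (hu x.1) ⟨⟨x.2.2.1.1, fun d hd => x.2.2.1.2 d (List.mem_append_left _ hd)⟩, x.2.2.2⟩⟩
    have hfix : ∀ s : S, s.1 (ix b) = ix b := fun s =>
      s.2.1.2 b (List.mem_append_right _ (List.mem_singleton_self b))
    have hinj : Function.Injective φ := by
      rintro ⟨w, s⟩ ⟨w', s'⟩ e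
      have e1 : u w * s.1 = u w' * s'.1 := congrArg Subtype.val e
      have e2 := congrArg (fun σ : Perm (Fin 45) => σ (ix b)) e1
      simp only [Perm.mul_apply, hfix] at e2
      have e3 : wordAp gens w.1 b = wordAp gens w'.1 b := by rw [← hub w, ← hub w', e2]
      have e4 : w = w' := Subtype.ext (List.inj_on_of_nodup_map hnd w.2 w'.2 e3)
      subst e4
      exact Prod.ext rfl (Subtype.ext (mul_left_cancel e1))
    have := Nat.card_le_card_of_injective φ hinj
    rw [Nat.card_prod, Nat.card_eq_fintype_card (α := {w // w ∈ ws}), Fintype.card_of_subtype ws.toFinset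
      (fun x => by simp), List.toFinset_card_of_nodup hws'] at this
    rw [List.map_cons, List.prod_cons]
    exact (Nat.mul_le_mul_left _ ih).trans this

/-- The transversals of the even generators. -/
def evenLevels : List (ℕ × List (List ℕ)) := tLevels.map fun p => (p.1, p.2.filter fun w => !w.contains 45)

theorem evenLevels_ok :
    lowOK (tGens.take 45) [] evenLevels = true ∧ (evenLevels.map fun p => p.2.length).prod = 25920 := by
  decide +kernel

/-- The even generators generate at least 25920 elements. -/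
theorem card_ge_of_t {H : Subgroup (Perm (Fin 45))}
    (hH : ∀ n < 45, ∀ σ : Perm (Fin 45), (∀ i : Fin 45, (σ i : ℕ) = apL (tGens.getD n []) i) → σ ∈ H) :
    25920 ≤ Nat.card (autGraph ⊓ H : Subgroup (Perm (Fin 45))) := by
  have hg : ∀ p ∈ tGens.take 45, autOK p = true := fun p hp =>
    List.all_eq_true.1 (Bool.and_eq_true_iff.1 gens_ok).1 p (List.mem_of_mem_take hp)
  have h := low_spec hg (H := H) (fun p hp σ hσ => by
    obtain ⟨n, hn, rfl⟩ := List.mem_iff_getElem.1 hp
    rw [List.length_take] at hn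
    refine hH n (by omega) σ fun i => ?_
    rw [hσ i, List.getElem_take, ← List.getD_eq_getElem (d := [])]) evenLevels [] evenLevels_ok.1
  rwa [evenLevels_ok.2, fixing_nil] at h

end Cfsg.Agent.TT95.K45G
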