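import Cfsg.Agent.TT95.K45.Minus

/-!
The isometry group of the six-dimensional minus type form over two elements has no non-trivial
nilpotent normal subgroup.
-/

set_option autoImplicit false

namespace Cfsg.Agent.TT95.K45G

open Cfsg.Agent.OrthCohom Cfsg.Agent.Reflections QuadraticMap

/-- The table of a reflection. -/
def rT (v : ℕ) : List ℕ := reflTab 6 (qmMinus 2) v

/-- Reduced columns. -/
def red (c : List ℕ) : List ℕ := (List.range 6).map fun j => c.getD j 0 % 64

theorem refl_distinct_check : ((List.range 64).all fun v => (List.range 64).all fun w =>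
    !(qmMinus 2 v && qmMinus 2 w && v != w) ||
      (List.range 64).any fun s => qmMinus 2 s &&
        red (comp (comp (rT w) (rT v)) (comp (rT s) (comp (comp (rT w) (rT v)) (rT s)))) !=
          red (comp (comp (rT s) (comp (comp (rT w) (rT v)) (rT s))) (comp (rT w) (rT v)))) = true := by
  decide +kernel

theorem ns_basis_check : (List.range 6).all (fun k => qmMinus 2 (2 ^ k) ||
    (List.range 64).any fun a => qmMinus 2 a && qmMinus 2 (a ^^^ 2 ^ k)) = true := by decide +kernel

theorem red_eq {g : Iso6} {c c' : List ℕ} (h : Tab (eMinus 2) g c) (h' : Tab (eMinus 2) g c') : red c = red c' := by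
  refine List.map_congr_left fun j hj => ?_
  have hj' : j < 6 := List.mem_range.1 hj
  refine vec_inj (eMinus 2) (Nat.mod_lt _ (by norm_num)) (Nat.mod_lt _ (by norm_num)) ?_
  show vec (eMinus 2) (c.getD j 0 % 2 ^ 6) = vec (eMinus 2) (c'.getD j 0 % 2 ^ 6)
  rw [vec_mod, vec_mod]
  exact (h.2 ⟨j, hj'⟩).symm.trans (h'.2 ⟨j, hj'⟩)

theorem abelian_normal_trivial {A : Subgroup Iso6} (hn : A.Normal) (hA : ∀ x ∈ A, ∀ y ∈ A, x * y = y * x) :
    A = ⊥ := by
  refine (Subgroup.eq_bot_iff_forall _).2 fun x hx => ?_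
  have hfix : ∀ v, v < 64 → qmMinus 2 v = true → act x (vv v) = vv v := by
    intro v hv hq
    by_contra hne
    obtain ⟨w, hw, ew⟩ := vec_surj (eMinus 2) (act x (vv v))
    have hqw : qmMinus 2 w = true := by
      have h := act_Q x (vv v)
      rw [← ew, coded.q_vec hw, vv, coded.q_vec hv, hq] at h
      cases hh : qmMinus 2 w
      · rw [hh] at h; simp at h
      · rfl
    have hvw : v ≠ w := fun e => hne (by rw [← ew, ← e]; rfl)
    have hq0 : qq (vv v) ≠ 0 := coded.ne_zero hv hq
    set y := refl qq (vv w) * refl qq (vv v) with hy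
    have hyA : y ∈ A := by
      have h1 : x * refl qq (vv v) * x⁻¹ = refl qq (vv w) := by
        rw [conj_refl x hq0, ← ew]; rfl
      rw [hy, ← h1, mul_assoc, mul_assoc]
      refine A.mul_mem hx ?_
      have h2 := hn.conj_mem _ (A.inv_mem hx) (refl qq (vv v))
      rwa [refl_inv hq0, mul_assoc] at h2
    have h := List.all_eq_true.1 (List.all_eq_true.1 refl_distinct_check v (List.mem_range.2 hv)) w (List.mem_range.2 hw)
    rw [Bool.or_eq_true, List.any_eq_true] at h
    obtain ⟨s, hs', hs2⟩ := h.resolve_left (by simp [hq, hqw, hvw])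
    rw [Bool.and_eq_true, bne_iff_ne] at hs2
    obtain ⟨hqs, hdiff⟩ := hs2
    have hs : s < 64 := List.mem_range.1 hs'
    have hqs0 : qq (vv s) ≠ 0 := coded.ne_zero hs hqs
    have hTy : Tab (eMinus 2) y (comp (rT w) (rT v)) := (coded.tab_refl hw hqw).mul (coded.tab_refl hv hq)
    set z := refl qq (vv s) * (y * refl qq (vv s)) with hz
    have hzA : z ∈ A := by
      have h2 := hn.conj_mem _ hyA (refl qq (vv s))
      rwa [refl_inv hqs0, mul_assoc] at h2
    have hTz : Tab (eMinus 2) z (comp (rT s) (comp (comp (rT w) (rT v)) (rT s))) :=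
      (coded.tab_refl hs hqs).mul (hTy.mul (coded.tab_refl hs hqs))
    refine hdiff (red_eq (hTy.mul hTz) ?_)
    rw [hA y hyA z hzA]
    exact hTz.mul hTy
  refine Tab.ext (c := idT 6) (e := eMinus 2) ⟨by simp [idT], fun k => ?_⟩ tab_one
  have h2k : (2 : ℕ) ^ (k : ℕ) < 64 := Nat.pow_lt_pow_right (by norm_num) k.2
  have hk := List.all_eq_true.1 ns_basis_check k (List.mem_range.2 k.2)
  have hid : vec (eMinus 2) ((idT 6).getD k 0) = vv (2 ^ (k : ℕ)) := by
    have : (k : ℕ) < 6 := k.2
    simp [idT, vv, List.getD_eq_getElem?_getD, this]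
  rw [hid]
  rw [Bool.or_eq_true] at hk
  rcases hk with h | h
  · exact hfix _ h2k h
  · simp only [List.any_eq_true, List.mem_range, Bool.and_eq_true] at h
    obtain ⟨a, ha, s1, s2⟩ := h
    have e : 2 ^ (k : ℕ) = a ^^^ (a ^^^ 2 ^ (k : ℕ)) := by rw [← Nat.xor_assoc, Nat.xor_self, Nat.zero_xor]
    show act x (vv (2 ^ (k : ℕ))) = vv _
    conv_lhs => rw [e, vv, vec_xor]
    conv_rhs => rw [e, vv, vec_xor]
    rw [act_add]
    exact congrArg₂ (· + ·) (hfix a ha s1) (hfix _ (Nat.xor_lt_two_pow (n := 6) ha h2k) s2)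

/-- The automorphism group of the graph has no non-trivial nilpotent normal subgroup. -/
theorem autGraph_nilpotent_normal {N : Subgroup autGraph} (hn : N.Normal) (hN : Group.IsNilpotent N) : N = ⊥ := by
  obtain ⟨e⟩ := exists_iso_minus
  rw [← coe_qMinus] at e
  by_contra hne
  haveI := hn
  haveI := hN
  haveI : Nontrivial N := (Subgroup.nontrivial_iff_ne_bot N).2 hne
  have hz : Subgroup.center N ≠ ⊥ := (Group.IsNilpotent.center_ne_bot _)
  have hA : ((Subgroup.center N).map N.subtype).map e.symm.toMonoidHom = ⊥ := by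
    refine abelian_normal_trivial (Subgroup.Normal.map inferInstance _ e.symm.surjective) ?_
    rintro _ ⟨_, ⟨x, hx, rfl⟩, rfl⟩ _ ⟨_, ⟨y, -, rfl⟩, rfl⟩
    have h := congrArg e.symm.toMonoidHom (congrArg N.subtype (Subgroup.mem_center_iff.1 hx y).symm)
    simp only [map_mul] at h
    exact h
  rw [Subgroup.map_eq_bot_iff_of_injective _ e.symm.injective,
    Subgroup.map_eq_bot_iff_of_injective _ N.subtype_injective] at hA
  exact hz hA

end Cfsg.Agent.TT95.K45G
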