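import Cfsg.Agent.TT95.K45.Graph

/-!
An involutory automorphism of the graph on 45 keys moving every index to a neighbour either is trivial or
moves some index so that the three common neighbours of it and its image are fixed.
-/

set_option autoImplicit false

namespace Cfsg.Agent.TT95.K45G

/-- The common neighbours. -/
def common45 (i e : ℕ) : List ℕ := (List.range 45).filter fun r => adj i r && adj e r

/-- Some moved index has exactly three common neighbours with its image, all known to be fixed. -/
def pruned (s : List (ℕ × ℕ)) : Bool :=
  s.any fun p => p.1 < 45 && p.2 < 45 && p.1 != p.2 && Nat.beq (common45 p.1 p.2).length 3 &&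
    (common45 p.1 p.2).all fun r => s.elem (r, r)

/-- The possible images of an index. -/
def images45 (s : List (ℕ × ℕ)) (x : ℕ) : List ℕ :=
  (List.range 45).filter fun y =>
    (Nat.beq x y || adj x y) && s.all fun p => (adj y p.2 == adj x p.1) && (Nat.beq y p.2 == Nat.beq x p.1)

/-- An index still free, with few possible images. -/
def pick45 (s : List (ℕ × ℕ)) : Option ℕ :=
  ((List.range 45).filter fun x => !(s.any fun p => Nat.beq p.1 x)).foldl
    (fun best x => match best with
      | none => some x
      | some b => if (images45 s x).length < (images45 s b).length then some x else some b) none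

/-- All completions are either trivial or pruned. -/
def search45 : ℕ → List (ℕ × ℕ) → Bool
  | 0, _ => false
  | n + 1, s => pruned s ||
      match pick45 s with
      | none => (List.range 45).all fun x => s.any fun p => Nat.beq p.1 x && Nat.beq p.2 x
      | some x => decide (x < 45) && (images45 s x).all fun y => search45 n ((x, y) :: (y, x) :: s)

theorem search45_check : search45 50 [] = true := by decide +kernel

theorem search45_spec {σ : Equiv.Perm (Fin 45)} (haut : σ ∈ autGraph) (h2 : ∀ i, σ (σ i) = i)
    (hd : ∀ i : Fin 45, σ i = i ∨ adj (i : ℕ) (σ i) = true) :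
    ∀ (n : ℕ) (s : List (ℕ × ℕ)),
      (∀ p ∈ s, p.1 < 45 ∧ p.2 < 45 ∧ (σ (ix p.1) : ℕ) = p.2) → search45 n s = true →
      σ = 1 ∨ ∃ i : Fin 45, σ i ≠ i ∧ (common45 i (σ i)).length = 3 ∧
        ∀ r ∈ common45 i (σ i), σ (ix r) = ix r
  | 0, _, _, h => by simp [search45] at h
  | n + 1, s, hs, h => by
    simp only [search45, Bool.or_eq_true] at h
    rcases h with h | h
    · right
      simp only [pruned, List.any_eq_true, Bool.and_eq_true, decide_eq_true_eq, bne_iff_ne,
        List.all_eq_true, List.elem_eq_mem] at h
      obtain ⟨⟨i, e⟩, hp, ⟨⟨⟨hi, he⟩, hne⟩, hlen⟩, hfix⟩ := h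
      obtain ⟨-, -, hv⟩ := hs _ hp
      refine ⟨ix i, fun c => hne ?_, ?_, ?_⟩
      · have := congrArg Fin.val c
        rw [hv, val_ix hi] at this
        exact this.symm
      · rw [hv, val_ix hi]; exact Nat.eq_of_beq_eq_true hlen
      · rw [hv, val_ix hi]
        intro r hr
        obtain ⟨hr45, -, hr'⟩ := hs _ (hfix r hr)
        exact Fin.ext (by rw [hr', val_ix hr45])
    · cases hpk : pick45 s with
      | none =>
        rw [hpk] at h
        simp only [List.all_eq_true, List.mem_range, List.any_eq_true, Bool.and_eq_true] at h
        left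
        refine Equiv.ext fun i => ?_
        obtain ⟨⟨u, v⟩, hp, hu, hv⟩ := h i i.2
        obtain rfl : u = (i : ℕ) := Nat.eq_of_beq_eq_true hu
        obtain rfl : v = (i : ℕ) := Nat.eq_of_beq_eq_true hv
        obtain ⟨-, -, e⟩ := hs _ hp
        simp only [ix_val] at e
        exact Fin.ext e
      | some x =>
        rw [hpk] at h
        simp only [Bool.and_eq_true, decide_eq_true_eq, List.all_eq_true] at h
        obtain ⟨hx, h⟩ := h
        have hy : (σ (ix x) : ℕ) ∈ images45 s x := by
          simp only [images45, List.mem_filter, List.mem_range, Bool.and_eq_true, Bool.or_eq_true,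
            List.all_eq_true, beq_iff_eq]
          refine ⟨(σ (ix x)).2, ?_, fun p hp => ?_⟩
          · rcases hd (ix x) with e | e
            · left; rw [e, val_ix hx]; exact Nat.beq_refl x
            · right; rwa [val_ix hx] at e
          · obtain ⟨h1, -, hv⟩ := hs p hp
            refine ⟨?_, ?_⟩
            · have e := haut (ix x) (ix p.1)
              rwa [hv, val_ix hx, val_ix h1] at e
            · rw [Bool.eq_iff_iff]
              constructor <;> intro c
              · have c' := Nat.eq_of_beq_eq_true c
                rw [← hv] at c'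
                have := congrArg Fin.val (σ.injective (Fin.ext c'))
                rw [val_ix hx, val_ix h1] at this
                rw [this]; exact Nat.beq_refl _
              · rw [Nat.eq_of_beq_eq_true c, hv]; exact Nat.beq_refl _
        refine search45_spec haut h2 hd n _ ?_ (h _ hy)
        intro p hp
        rcases List.mem_cons.1 hp with rfl | hp
        · exact ⟨hx, (σ (ix x)).2, rfl⟩
        rcases List.mem_cons.1 hp with rfl | hp
        · refine ⟨(σ (ix x)).2, hx, ?_⟩
          show (σ (ix (σ (ix x) : ℕ)) : ℕ) = x
          rw [ix_val, h2, val_ix hx]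
        · exact hs p hp

/-- The alternative for an involution moving every index to a neighbour. -/
theorem displace45 {σ : Equiv.Perm (Fin 45)} (haut : σ ∈ autGraph) (h2 : ∀ i, σ (σ i) = i)
    (hd : ∀ i : Fin 45, σ i = i ∨ adj (i : ℕ) (σ i) = true) :
    σ = 1 ∨ ∃ i : Fin 45, σ i ≠ i ∧ (common45 i (σ i)).length = 3 ∧
      ∀ r ∈ common45 i (σ i), σ (ix r) = ix r :=
  search45_spec haut h2 hd 50 [] (fun _ h => nomatch h) search45_check

theorem common01 : adj 0 1 = true ∧ (common45 0 1).length = 3 := by decide +kernel

end Cfsg.Agent.TT95.K45G
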