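import Cfsg.Agent.TT95.K45.Graph
import Cfsg.Agent.TT95.U6Residue

/-!
The indices as keys of the point model, and the finite facts about the chosen fibre pairs.
-/

set_option autoImplicit false

namespace Cfsg.Agent.TT95.K45G

open Cfsg.Agent.TT95.U6

/-- The chosen pairs in one fibre, in four dual pairs. -/
def basePairs : List (ℕ × ℕ) :=
  [(4, 5), (256, 513), (4, 9), (256, 257), (16, 17), (1024, 2049), (16, 33), (1024, 1025)]

/-- The key of an index. -/
def kv (i : ℕ) : ℕ := keyList.getD i 0

theorem keyList_check : ((List.range 45).all fun i => keys.elem (kv i) &&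
    (List.range 45).all fun j => (i == j || kv i != kv j) &&
      (adj i j == (i != j && orth (kv i) (kv j)))) = true := by decide +kernel

/-- Boolean form of `isR`. -/
def inRes (x : ℕ) : Bool := isPt x && orth x e1 && !Nat.beq x e1

theorem inRes_iff {x : ℕ} : inRes x = true ↔ isR x := by
  simp only [inRes, isR, Bool.and_eq_true, Bool.not_eq_true', and_assoc]
  refine and_congr_right fun _ => and_congr_right fun _ => ⟨fun h e => by rw [e] at h; simp at h, fun h => ?_⟩
  exact Bool.eq_false_iff.2 fun e => h (Nat.eq_of_beq_eq_true e)

theorem tCentre_check : ((List.range 45).all fun n =>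
    inRes (tCentres.getD n 0) && (List.range 45).all fun i =>
      key (tv (tCentres.getD n 0) (kv i)) == kv (apL (tGens.getD n []) i)) = true := by
  decide +kernel

theorem tGens_length : tGens.length = 46 := by decide +kernel

theorem tLevels_words : ((tLevels.map fun p => (p.1, p.2.filter fun w => !w.contains 45)).map
    fun p => p.2.length).prod = 25920 := by decide +kernel

/-- Whether conjugating the first pair by the second exchanges it with the rest of its fibre. -/
def flip (u v : ℕ × ℕ) : Bool :=
  !((tv v.1 (tv v.2 u.1) == u.1 && tv v.1 (tv v.2 u.2) == u.2) || (tv v.1 (tv v.2 u.1) == u.2 && tv v.1 (tv v.2 u.2) == u.1))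

theorem pair_check : ((List.range 8).all fun i =>
    let u := basePairs.getD i (0, 0)
    inRes u.1 && inRes u.2 && key u.1 == key u.2 && u.1 != u.2 &&
    (keys.all fun k => key (tv u.1 (tv u.2 k)) == k) &&
    (List.range 8).all fun j =>
      let v := basePairs.getD j (0, 0)
      let p := tv v.1 (tv v.2 u.1)
      let q := tv v.1 (tv v.2 u.2)
      (flip u v == (i / 2 == j / 2 && i != j)) &&
      (!flip u v || (key p == key u.1 && key q == key u.1 && p != q && p != u.1 && p != u.2 && q != u.1 && q != u.2))) = true := by
  decide +kernel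

end Cfsg.Agent.TT95.K45G

namespace Cfsg.Agent.TT95.K45G

open Cfsg.Agent.TT95.U6

theorem tv_key_check :
    allP (fun x => Nat.beq x e1 || allP (fun s => Nat.beq s e1 || Nat.beq (key (tv x s)) (key (tv (key x) s))) perp1)
      perp1 = true := by
  decide +kernel

/-- Points with the same key move the keys alike. -/
theorem tv_key_congr {x y s : ℕ} (hx : isR x) (hy : isR y) (e : key x = key y) (hs : isR s) :
    key (tv x s) = key (tv y s) := by
  have main : ∀ z, isR z → key (tv z s) = key (tv (key z) s) := by
    intro z hz
    have h := allP_iff.1 tv_key_check z (mem_perp1 hz)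
    rw [Bool.or_eq_true] at h
    have h2 := allP_iff.1 (h.resolve_left fun h => hz.2.2 (Nat.eq_of_beq_eq_true h)) s (mem_perp1 hs)
    rw [Bool.or_eq_true] at h2
    exact Nat.eq_of_beq_eq_true (h2.resolve_left fun h => hs.2.2 (Nat.eq_of_beq_eq_true h))
  rw [main x hx, main y hy, e]

end Cfsg.Agent.TT95.K45G
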